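import Cfsg.Agent.StdAlt.Six.Theta
import Cfsg.Agent.StdAlt.CaseB
set_option linter.all false

/-!
# The action of the normalizer on a subgroup isomorphic to `A_6`

`Act e g α`: the element `g` acts on `A ≃* A_6` as the automorphism `α`.
-/

set_option autoImplicit false
set_option linter.unusedSectionVars false

namespace Cfsg.Agent.StdAlt.Six

open Equiv Equiv.Perm Subgroup Cfsg.Agent.StdAlt.Conj

/-! ### conjugation by permutations -/

/-- conjugation by a permutation -/
def pc : Perm (Fin 6) →* MulAut A6 := MulAut.conjNormal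

theorem pc_apply (σ : Perm (Fin 6)) (x : A6) : ((pc σ x : A6) : Perm (Fin 6)) = σ * x * σ⁻¹ :=
  MulAut.conjNormal_apply σ x

theorem pc_inj {σ τ : Perm (Fin 6)} (h : pc σ = pc τ) : σ = τ := by
  apply Cfsg.Agent.StandardComponent.AltAut.conj_unique (m := 4) (by norm_num)
  intro x
  rw [← pc_apply, ← pc_apply, h]

theorem pc_val (a : A6) : pc (a : Perm (Fin 6)) = MulAut.conj a := by
  ext x : 1
  exact Subtype.ext (by rw [pc_apply]; rfl)

theorem ns_iff {α : MulAut A6} : NS α ↔ ∃ σ, α = pc σ := by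
  constructor
  · rintro ⟨σ, h⟩
    refine ⟨σ, ?_⟩
    ext x : 1
    exact Subtype.ext (by rw [pc_apply, h])
  · rintro ⟨σ, rfl⟩
    exact ⟨σ, pc_apply σ⟩

theorem ns_pc (σ : Perm (Fin 6)) : NS (pc σ) := ns_iff.2 ⟨σ, rfl⟩

theorem conj_inj {a b : A6} (h : MulAut.conj a = MulAut.conj b) : a = b := by
  rw [← pc_val, ← pc_val] at h
  exact Subtype.ext (pc_inj h)

theorem ns_one : NS 1 := by
  rw [← map_one pc]; exact ns_pc 1

theorem ns_sq (α : MulAut A6) : NS (α * α) := by
  by_cases h : NS α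
  · exact h.mul h
  · exact NS.mul_of_not h h

theorem ns_conj {α β : MulAut A6} (h : NS α) : NS (β * α * β⁻¹) := by
  by_cases hβ : NS β
  · exact (hβ.mul h).mul hβ.inv
  · apply NS.mul_of_not (not_ns_mul_right hβ h)
    intro h1
    apply hβ
    have := h1.inv
    rwa [inv_inv] at this

theorem ns_conj_iff {α β : MulAut A6} : NS (β * α * β⁻¹) ↔ NS α := by
  refine ⟨fun h => ?_, ns_conj⟩
  have := ns_conj (β := β⁻¹) h
  rwa [show β⁻¹ * (β * α * β⁻¹) * β⁻¹⁻¹ = α by group] at this

theorem ns_mul_conj_iff {α : MulAut A6} (a : A6) : NS (MulAut.conj a * α) ↔ NS α := by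
  constructor
  · intro h
    have := (NS.conj a).inv.mul h
    rwa [inv_mul_cancel_left] at this
  · intro h
    exact (NS.conj a).mul h

/-- an automorphism commuting with conjugation by `a` fixes `a` -/
theorem fix_of_comm {α : MulAut A6} {a : A6} (h : MulAut.conj a * α = α * MulAut.conj a) :
    α a = a := by
  apply conj_inj
  ext y : 1
  obtain ⟨x, rfl⟩ := α.surjective y
  have h1 := congrArg (fun f : MulAut A6 => f x) h
  simp only [MulAut.mul_apply, MulAut.conj_apply, map_mul, map_inv] at h1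
  rw [MulAut.conj_apply, MulAut.conj_apply, h1]

/-! ### the action -/

variable {G : Type*} [Group G] {A B : Subgroup G}

/-- the embedding -/
def emb (e : A6 ≃* A) : A6 →* G := A.subtype.comp e.toMonoidHom

theorem emb_mem (e : A6 ≃* A) (x : A6) : emb e x ∈ A := (e x).2

theorem exists_emb (e : A6 ≃* A) {a : G} (ha : a ∈ A) : ∃ x, emb e x = a :=
  ⟨e.symm ⟨a, ha⟩, by
    show ((e (e.symm ⟨a, ha⟩) : A) : G) = a
    rw [MulEquiv.apply_symm_apply]⟩

theorem emb_inj {e : A6 ≃* A} {x y : A6} (h : emb e x = emb e y) : x = y :=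
  e.injective (Subtype.ext h)

/-- the element `g` acts on `A` as the automorphism `α` -/
def Act (e : A6 ≃* A) (g : G) (α : MulAut A6) : Prop := ∀ x, g * emb e x * g⁻¹ = emb e (α x)

theorem exists_act (e : A6 ≃* A) {g : G} (hg : g ∈ N A) : ∃ α, Act e g α := by
  let c : MulAut A := Subgroup.normalizerMonoidHom A ⟨g, hg⟩
  refine ⟨(e.trans c).trans e.symm, fun x => ?_⟩
  show g * emb e x * g⁻¹ = ((e (e.symm (c (e x))) : A) : G)
  rw [MulEquiv.apply_symm_apply]
  rfl

section act

variable {e : A6 ≃* A} {g h : G} {α β : MulAut A6}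

theorem Act.mul (hg : Act e g α) (hh : Act e h β) : Act e (g * h) (α * β) := by
  intro x
  rw [show g * h * emb e x * (g * h)⁻¹ = g * (h * emb e x * h⁻¹) * g⁻¹ by group, hh, hg]
  rfl

theorem Act.inv (hg : Act e g α) : Act e g⁻¹ α⁻¹ := by
  intro x
  have h1 := hg (α⁻¹ x)
  rw [show α (α⁻¹ x) = x from α.apply_symm_apply x] at h1
  rw [← h1]; group

theorem Act.unique (hg : Act e g α) (hg' : Act e g β) : α = β := by
  ext x : 1
  apply emb_inj (e := e)
  rw [← hg, ← hg']

theorem act_emb (e : A6 ≃* A) (a : A6) : Act e (emb e a) (MulAut.conj a) := by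
  intro x
  rw [MulAut.conj_apply, map_mul, map_mul, map_inv]

theorem act_one_iff : Act e g 1 ↔ g ∈ C A := by
  rw [mem_C]
  constructor
  · intro h a ha
    obtain ⟨x, rfl⟩ := exists_emb e ha
    exact mul_inv_eq_iff_eq_mul.1 (h x)
  · intro h x
    rw [h _ (emb_mem e x), mul_inv_cancel_right]; rfl

theorem Act.mem_N [Finite G] (hg : Act e g α) : g ∈ N A := by
  apply mem_N_of
  intro a ha
  obtain ⟨x, rfl⟩ := exists_emb e ha
  rw [hg]
  exact emb_mem e _

theorem act_one (e : A6 ≃* A) : Act e (1 : G) 1 := act_one_iff.2 (one_mem _)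

theorem Act.comm (hg : Act e g α) (hh : Act e h β) (hc : g * h = h * g) : α * β = β * α := by
  apply Act.unique (hg.mul hh)
  rw [hc]
  exact hh.mul hg

theorem Act.mem_C (hg : Act e g α) (hα : α = 1) : g ∈ C A := act_one_iff.1 (hα ▸ hg)

/-- `g` and `emb e a` commute if the automorphism of `g` fixes `a` -/
theorem Act.comm_emb (hg : Act e g α) {a : A6} (h : α a = a) : g * emb e a = emb e a * g := by
  have := hg a
  rw [h] at this
  exact mul_inv_eq_iff_eq_mul.1 this

theorem Act.fix (hg : Act e g α) {a : A6} (h : g * emb e a = emb e a * g) : α a = a := by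
  apply emb_inj (e := e)
  rw [← hg, h, mul_inv_cancel_right]

/-- the commutator of `emb e a` and `g` -/
theorem Act.commutator (hg : Act e g α) (a : A6) :
    emb e a * g * (emb e a)⁻¹ * g⁻¹ = emb e (a * (α a)⁻¹) := by
  have h1 := hg a
  rw [map_mul, map_inv, ← h1]; group

/-- change of the labelling by an automorphism -/
def tw (β : MulAut A6) (e : A6 ≃* A) : A6 ≃* A := MulEquiv.trans (β⁻¹ : MulAut A6) e

theorem emb_tw (β : MulAut A6) (e : A6 ≃* A) (x : A6) : emb (tw β e) x = emb e (β⁻¹ x) := rfl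

theorem emb_tw' (β : MulAut A6) (e : A6 ≃* A) (x : A6) : emb (tw β e) (β x) = emb e x := by
  rw [emb_tw, show β⁻¹ (β x) = x from β.symm_apply_apply x]

theorem Act.tw (hg : Act e g α) (β : MulAut A6) : Act (tw β e) g (β * α * β⁻¹) := by
  intro x
  rw [emb_tw, emb_tw, hg]
  congr 1
  simp only [MulAut.mul_apply]
  exact (β.symm_apply_apply _).symm

end act

/-- relabel so that a given involution is `Z0` -/
theorem exists_tw (e : A6 ≃* A) {u : G} (hu : u ∈ A) (h1 : u ≠ 1) (h2 : u * u = 1) :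
    ∃ w : A6, emb (tw (MulAut.conj w) e) Z0 = u := by
  obtain ⟨x, rfl⟩ := exists_emb e hu
  have hx1 : x ≠ 1 := fun h => h1 (by rw [h, map_one])
  have hx2 : x * x = 1 := emb_inj (e := e) (by rw [map_mul, map_one]; exact h2)
  obtain ⟨w, hw⟩ := exists_conj_Z0 hx2 hx1
  refine ⟨w, ?_⟩
  rw [← hw, ← MulAut.conj_apply, emb_tw']

/-- elements whose automorphism is not induced by a permutation -/
def Sw (e : A6 ≃* A) (g : G) : Prop := ∃ α, Act e g α ∧ ¬ NS α

theorem Sw.tw {e : A6 ≃* A} {g : G} (h : Sw e g) (β : MulAut A6) : Sw (Six.tw β e) g := by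
  obtain ⟨α, h1, h2⟩ := h
  exact ⟨_, h1.tw β, fun h3 => h2 (ns_conj_iff.1 h3)⟩

/-! ### involutions of `C B` -/

section pair

variable [Finite G] (hA : TE A) (hB : Cj A B) (hne : A ≠ B)

include hA hB hne

/-- commutators with elements of `A` commuting with an involution of `C B` -/
theorem comm_mem {k : G} (hk : k ∈ C B) (hk1 : k ≠ 1) (hkk : k * k = 1) {a : G} (ha : a ∈ A)
    (hak : a * k = k * a) {j : G} (hj : j ∈ C B) (hjA : j ∈ N A) :
    a * j * a⁻¹ * j⁻¹ ∈ A ∧ a * j * a⁻¹ * j⁻¹ ∈ C B := by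
  have haB : a ∈ N B := (hA.of_cj hB).nrm hk hk1 hkk hak
  constructor
  · rw [show a * j * a⁻¹ * j⁻¹ = a * (j * a⁻¹ * j⁻¹) by group]
    exact mul_mem ha (conj_mem hjA (inv_mem ha))
  · exact mul_mem (conj_mem_C haB hj) (inv_mem hj)

/-- an involution of `C B` does not centralize `A` -/
theorem not_mem {k : G} (hk : k ∈ C B) (hk1 : k ≠ 1) (hkk : k * k = 1) : k ∉ C A :=
  fun h => hne (hA.eq_of_mem hB hk1 hkk h hk)

theorem comm_emb_mem (e : A6 ≃* A) {k : G} (hk : k ∈ C B) (hk1 : k ≠ 1) (hkk : k * k = 1) {a : A6}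
    {α : MulAut A6} (hak : Act e k α) (hα : α a = a) {j : G} (hj : j ∈ C B) (hjA : j ∈ N A)
    {β : MulAut A6} (hβ : Act e j β) : emb e (a * (β a)⁻¹) ∈ C B := by
  rw [← hβ.commutator]
  exact (comm_mem hA hB hne hk hk1 hkk (emb_mem e a) (hak.comm_emb hα).symm hj hjA).2

end pair

end Cfsg.Agent.StdAlt.Six
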