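import Cfsg.Agent.StdAlt.Six.AutLemmas
set_option linter.all false

/-!
# The outer automorphism of `A_6`
-/

set_option autoImplicit false

namespace Cfsg.Agent.StdAlt.Six

open Equiv Equiv.Perm Subgroup
open Cfsg.Agent.StdAlt.PermTypes (cyc)

/-- images of the cycles `(i 4 5)` -/
def th (i : Fin 6) : Perm (Fin 6) :=
  if i = 0 then cyc 0 1 2 * cyc 3 4 5 else if i = 1 then cyc 0 2 4 * cyc 1 3 5 else
    if i = 2 then cyc 0 3 1 * cyc 2 5 4 else if i = 3 then cyc 0 4 3 * cyc 1 5 2 else 1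

theorem th_even : ∀ i, Perm.sign (th i) = 1 := by decide +kernel

theorem th_cube : ∀ i, th i ^ 3 = 1 := by decide +kernel

theorem th_sq : ∀ i j : Fin 6, (i ≠ 4 ∧ i ≠ 5) → (j ≠ 4 ∧ j ≠ 5) → i ≠ j → (th i * th j) ^ 2 = 1 := by
  decide +kernel

theorem mv_th : mv (th 0) = 6 := by decide +kernel

/-- `th i` in `A6` -/
def th' (i : Fin 6) : A6 := ⟨th i, Equiv.Perm.mem_alternatingGroup.2 (th_even i)⟩

theorem exists_theta : ∃ θ : MulAut A6, ¬ NS θ := by
  obtain ⟨f, hf⟩ := Carm.exists_hom (c := (4 : Fin 6)) (d := 5) (y := th') (by decide) (by simp)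
    (fun i _ _ => Subtype.ext (th_cube i))
    (fun i j h1 h2 h3 h4 h5 => Subtype.ext (th_sq i j ⟨h1, h2⟩ ⟨h3, h4⟩ h5))
  have h0 : f ⟨cyc 0 4 5, PermTypes.cyc_mem_alt (by decide) (by decide)⟩ = th' 0 :=
    hf _ 0 (by decide) (by decide) rfl
  have hmv : mv (cyc (0 : Fin 6) 4 5) = 3 := by unfold cyc; decide +kernel
  have hsimple : IsSimpleGroup A6 :=
    alternatingGroup.isSimpleGroup (by rw [Nat.card_eq_fintype_card, Fintype.card_fin]; omega)
  have hinj : Function.Injective f := by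
    rw [← MonoidHom.ker_eq_bot_iff]
    rcases (inferInstance : f.ker.Normal).eq_bot_or_eq_top with hb | ht
    · exact hb
    · exfalso
      have h1 : (⟨cyc 0 4 5, PermTypes.cyc_mem_alt (by decide) (by decide)⟩ : A6) ∈ f.ker := by
        rw [ht]; exact mem_top _
      rw [MonoidHom.mem_ker, h0] at h1
      have h2 := congrArg Subtype.val h1
      exact (by decide +kernel : th 0 ≠ 1) h2
  let θ : MulAut A6 := MulEquiv.ofBijective f (Finite.injective_iff_bijective.1 hinj)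
  refine ⟨θ, ?_⟩
  rintro ⟨σ, hσ⟩
  have h1 := hσ ⟨cyc 0 4 5, PermTypes.cyc_mem_alt (by decide) (by decide)⟩
  have h2 : θ ⟨cyc 0 4 5, PermTypes.cyc_mem_alt (by decide) (by decide)⟩ = th' 0 := h0
  rw [h2] at h1
  have h3 : th 0 = σ * cyc 0 4 5 * σ⁻¹ := h1
  have h4 := mv_th
  rw [h3, mv_conj, hmv] at h4
  exact absurd h4 (by decide)

/-- an automorphism exchanging the two classes of four-groups -/
theorem exists_theta' : ∃ θ : MulAut A6, ¬ NS θ ∧ θ Z0 = Z0 := by
  obtain ⟨θ, hθ⟩ := exists_theta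
  obtain ⟨w, hw⟩ := exists_conj_Z0 (x := θ Z0) (by rw [← map_mul, Z0_sq, map_one])
    (ne_map Z0_ne)
  exact ⟨MulAut.conj w * θ, not_ns_mul_left (NS.conj w) hθ, by
    rw [MulAut.mul_apply, MulAut.conj_apply, hw]⟩

end Cfsg.Agent.StdAlt.Six
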